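import Groth.Agent.Lib.GLCrit15.Criterion
import Groth.Agent.Lib.FormSub28.GLStable
import Groth.Agent.Lib.Comodule.CoactAlg

/-! # The numerical criterion for forms: weights of diagonal one-parameter subgroups -/

set_option autoImplicit false
set_option linter.style.haveILetI false
universe u

open TensorProduct MvPolynomial CoordGrp WithConv Groth.Agent.OrbitH28 Groth.Agent.FormSub28 Groth.Agent.GLCrit15

noncomputable section

namespace Groth.Agent.FormHM13

/-- Semistability and the origin, for a small index type. -/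
theorem semistable_iff_origin (k : Type u) [Field k] [IsAlgClosed k]
    (A : Type u) [CommRing A] [HopfAlgebra k A] [Algebra.FiniteType k A] (hG : HopfRep.IsLinearlyReductive k A)
    (ι : Type) [Fintype ι] [HopfRep.Comod k A (MvPolynomial ι k)] [GLin.IsCoactAlg k A (MvPolynomial ι k)]
    (hlin : GLin.IsLinear k A ι) (v : ι → k) :
    GLin.IsSemistableVec k A v ↔
      ¬ GLin.InOrbitClosure k A (GLin.vecPt k ι v) (GLin.vecPt k ι (fun _ => (0 : k))) := by
  constructor
  · intro hss hcl
    refine hss fun F hF d hd hhom => ?_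
    have := Groth.Agent.Comodule.eq_of_inOrbitClosure hcl hF
    have h0 : MvPolynomial.aeval (fun _ : ι => (0 : k)) F = 0 := by
      show MvPolynomial.aeval (0 : ι → k) F = 0
      rw [MvPolynomial.aeval_zero, MvPolynomial.constantCoeff_eq, hhom.coeff_eq_zero (by simp; omega)]
      simp
    rw [← MvPolynomial.aeval_eq_eval]
    exact this.symm.trans h0
  · intro hcl hnull
    apply hcl
    have key : ∀ f ∈ GLin.invariants k A (MvPolynomial ι k),
        GLin.vecPt k ι v f = GLin.vecPt k ι (fun _ => (0 : k)) f := by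
      intro f hf
      rw [← MvPolynomial.sum_homogeneousComponent f, map_sum, map_sum]
      refine Finset.sum_congr rfl fun d _ => ?_
      have hd : MvPolynomial.homogeneousComponent d f ∈ GLin.invariants k A (MvPolynomial ι k) := by
        rw [GLin.mem_invariants_iff, Groth.Agent.Comodule.comodHom_apply (Groth.Agent.Comodule.rTensor_homogeneousComponent_coact hlin d),
          (GLin.mem_invariants_iff k A _ f).mp hf]
        rfl
      rcases Nat.eq_zero_or_pos d with rfl | hpos
      · simp [MvPolynomial.homogeneousComponent_zero]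
      · have e1 := hnull _ hd d hpos (MvPolynomial.homogeneousComponent_isHomogeneous d f)
        have e2 : MvPolynomial.aeval (0 : ι → k) (MvPolynomial.homogeneousComponent d f) = 0 := by
          rw [MvPolynomial.aeval_zero, MvPolynomial.constantCoeff_eq,
            (MvPolynomial.homogeneousComponent_isHomogeneous d f).coeff_eq_zero (by simp; omega)]
          simp
        show MvPolynomial.aeval v _ = MvPolynomial.aeval (0 : ι → k) _
        rw [e2]; simpa [MvPolynomial.aeval_eq_eval] using e1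
    obtain ⟨z, hz, hz0⟩ := Groth.Agent.Comodule.exists_inOrbitClosure_both hG key
    have hfix : z = GLin.vecPt k ι (fun _ => (0 : k)) := by
      refine MvPolynomial.algHom_ext fun i => ?_
      have : MvPolynomial.X i ∈ RingHom.ker (GLin.orbitHom k A (GLin.vecPt k ι (fun _ => (0 : k)))) := by
        obtain ⟨m, hm⟩ := hlin i
        rw [RingHom.mem_ker, Groth.Agent.Comodule.orbitHom_apply, hm]
        simp
      have hzi : z (MvPolynomial.X i) = 0 := hz0 this
      simp [hzi]
    exact hfix ▸ hz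


variable {k : Type u} [Field k] {N d : ℕ}

/-- The weight of a monomial. -/
def W (w : Fin N → ℤ) (β : Fin N →₀ ℕ) : ℤ := ∑ i, w i * β i

lemma degree_of_coeff_ne {F : MvPolynomial (Fin N) k} (hF : F.IsHomogeneous d) {β : Fin N →₀ ℕ}
    (h : coeff β F ≠ 0) : β.degree = d := by
  by_contra hne
  exact h (hF.coeff_eq_zero hne)

lemma prod_zpow_pow {t : k} (ht : t ≠ 0) (w : Fin N → ℤ) (β : Fin N →₀ ℕ) (s : Finset (Fin N)) :
    ∏ i ∈ s, (t ^ w i) ^ β i = t ^ (∑ i ∈ s, w i * β i) := by
  classical
  induction s using Finset.induction_on with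
  | empty => simp
  | insert i s hi ih => rw [Finset.prod_insert hi, Finset.sum_insert hi, ih, zpow_add₀ ht, zpow_mul, zpow_natCast]

/-- A matrix of determinant one moving a form to one with the given weights exposes a limit. -/
theorem exists_limit [IsAlgClosed k] (hd : (d.factorial : k) ≠ 0) (a : FormIdx N d → k) (M : Matrix (Fin N) (Fin N) k)
    (hM : M.det = 1) (w : Fin N → ℤ) (hw : ∑ i, w i = 0)
    (hsupp : ∀ β, coeff β (subM M (formPoly a)) ≠ 0 → 0 ≤ W w β) :
    ∃ b : FormIdx N d → k, (∀ l, b l ≠ 0 → movedVec (ptM M hM) a l ≠ 0 ∧ W w l.1 = 0) ∧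
      @GLin.InOrbitClosure k _ (SLn N k) _ _ (FormRing k N d) _ _ (cF N d k) (hcF N d k)
        (GLin.vecPt k _ a) (GLin.vecPt k _ b) ∧
      ∀ t : k, t ≠ 0 → ∃ g : Pts k (SLn N k),
        (∀ i, g.ofConv (SLn.X i i) = t ^ w i) ∧
        @mv k _ (SLn N k) _ _ (FormRing k N d) _ _ (cF N d k) (hcF N d k) g (GLin.vecPt k _ b) =
          GLin.vecPt k _ b := by
  classical
  letI := cF N d k
  haveI := hcF N d k
  let g := ptM M hM
  set a1 := movedVec g a
  have hlow : ∀ l, a1 l ≠ 0 → 0 ≤ W w l.1 := fun l hl => hsupp l.1 (by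
    rw [show subM M (formPoly a) = formPoly a1 by rw [formPoly_movedVec hd, mat_ptM], coeff_formPoly]
    exact mul_ne_zero (multinomial_ne_zero hd l) hl)
  have hδ : ∀ t : k, t ≠ 0 → (Matrix.diagonal fun i => t ^ w i).det = 1 := by
    intro t ht
    have h := prod_zpow_pow ht w (Finsupp.equivFunOnFinite.symm fun _ => 1) Finset.univ
    simp only [Finsupp.equivFunOnFinite_symm_apply_apply, pow_one, Nat.cast_one, mul_one, hw, zpow_zero] at h
    rw [Matrix.det_diagonal, h]
  let e : FormIdx N d → ℕ := fun l => (W w l.1).toNat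
  have hmoved : ∀ (v : FormIdx N d → k), (∀ l, v l ≠ 0 → 0 ≤ W w l.1) →
      ∀ (t : k) (ht : t ≠ 0), movedVec (ptM _ (hδ t ht)) v = fun l => v l * t ^ e l := by
    intro v hv t ht
    refine formPoly_injective hd ?_
    rw [formPoly_movedVec hd, mat_ptM]
    refine MvPolynomial.ext _ _ fun β => ?_
    rw [coeff_subM_diagonal, prod_zpow_pow ht w β Finset.univ]
    by_cases hβ : β.degree = d
    · rw [show β = (⟨β, hβ⟩ : FormIdx N d).1 from rfl, coeff_formPoly, coeff_formPoly]
      rcases eq_or_ne (v ⟨β, hβ⟩) 0 with h0 | h0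
      · simp [h0]
      · have h1 : ((e ⟨β, hβ⟩ : ℕ) : ℤ) = ∑ i, w i * β i := Int.toNat_of_nonneg (hv _ h0)
        simp only
        rw [← h1, zpow_natCast]
        ring
    · rw [(isHomogeneous_formPoly _).coeff_eq_zero hβ, (isHomogeneous_formPoly _).coeff_eq_zero hβ, mul_zero]
  let b : FormIdx N d → k := fun l => a1 l * 0 ^ e l
  have hb0 : ∀ l, b l ≠ 0 → a1 l ≠ 0 ∧ W w l.1 = 0 := fun l hl => by
    refine ⟨left_ne_zero_of_mul hl, le_antisymm (Int.toNat_eq_zero.1 ?_) (hlow l (left_ne_zero_of_mul hl))⟩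
    by_contra hne
    exact right_ne_zero_of_mul hl (zero_pow hne)
  refine ⟨b, hb0, ?_, fun t ht => ⟨ptM _ (hδ t ht), fun i => ?_, ?_⟩⟩
  · intro f hf
    rw [RingHom.mem_ker] at hf ⊢
    let P : Polynomial k := aeval (fun l => Polynomial.C (a1 l) * Polynomial.X ^ e l) f
    have hP : ∀ t : k, P.eval t = aeval (fun l => a1 l * t ^ e l) f := by
      intro t
      have : (Polynomial.aeval t).comp (aeval fun l => Polynomial.C (a1 l) * Polynomial.X ^ e l :
          FormRing k N d →ₐ[k] Polynomial k) = aeval fun l => a1 l * t ^ e l :=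
        MvPolynomial.algHom_ext fun l => by simp
      rw [← this]
      simp [P]
    have hP0 : P = 0 := by
      refine Polynomial.eq_zero_of_infinite_isRoot P ?_
      refine Set.Infinite.mono (s := {t : k | t ≠ 0}) (fun t ht => ?_) ?_
      · show P.eval t = 0
        rw [hP, ← hmoved a1 hlow t ht]
        show GLin.vecPt k _ (movedVec (ptM _ (hδ t ht)) a1) f = 0
        rw [← mv_vecPt, ← mv_vecPt, mv_mv, mv_apply, hf, map_zero]
      · exact (Set.finite_singleton (0 : k)).infinite_compl
    show aeval b f = 0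
    have := hP 0
    rw [hP0, Polynomial.eval_zero] at this
    exact this.symm
  · exact (SLn.pt_X _ (hδ t ht) i i).trans (Matrix.diagonal_apply_eq _ i)
  · rw [mv_vecPt, hmoved b (fun l hl => (hb0 l hl).2.ge) t ht]
    congr 1
    funext l
    simp only [b]
    rcases Nat.eq_zero_or_pos (e l) with h0 | h0
    · simp [h0]
    · simp [zero_pow h0.ne']

/-- A form with a non-trivial non-negative weight system is not stable. -/
theorem not_stable_of_weights [IsAlgClosed k] (hd : (d.factorial : k) ≠ 0) {a : FormIdx N d → k}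
    (hst : @GLin.IsStableVec k _ (SLn N k) _ _ (FormIdx N d) (cF N d k) (hcF N d k) a)
    (M : Matrix (Fin N) (Fin N) k) (hM : M.det = 1) (w : Fin N → ℤ) (hw : ∑ i, w i = 0) {i₀ : Fin N}
    (hw0 : w i₀ ≠ 0) (hsupp : ∀ β, coeff β (subM M (formPoly a)) ≠ 0 → 0 ≤ W w β) : False := by
  classical
  letI := cF N d k
  haveI := hcF N d k
  haveI := finiteType_SL (k := k) (N := N)
  obtain ⟨hclosed, hfin⟩ := hst
  obtain ⟨b, -, hb, hfix⟩ := exists_limit hd a M hM w hw hsupp
  obtain ⟨h, hh⟩ := (closed_iff_isClosedOrbit (GLin.vecPt k _ a)).2 hclosed _ hb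
  have hfinb : FinStab (SLn N k) (GLin.vecPt k (FormIdx N d) b) := hh ▸ (finStab_of_hasFiniteStab hfin).mv h
  have hroot : ∀ u : k, u ≠ 0 → ∃ t : k, t ≠ 0 ∧ t ^ w i₀ = u := by
    intro u hu
    obtain ⟨n, hn, hn'⟩ : ∃ n : ℕ, 0 < n ∧ ((n : ℤ) = w i₀ ∨ -(n : ℤ) = w i₀) :=
      ⟨(w i₀).natAbs, Int.natAbs_pos.2 hw0, by omega⟩
    rcases hn' with h' | h'
    · obtain ⟨t, ht⟩ := IsAlgClosed.exists_pow_nat_eq u hn
      refine ⟨t, fun h0 => hu ?_, by rw [← h', zpow_natCast, ht]⟩
      rw [← ht, h0, zero_pow hn.ne']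
    · obtain ⟨t, ht⟩ := IsAlgClosed.exists_pow_nat_eq u⁻¹ hn
      refine ⟨t, fun h0 => inv_ne_zero hu ?_, by rw [← h', zpow_neg, zpow_natCast, ht, inv_inv]⟩
      rw [← ht, h0, zero_pow hn.ne']
  choose! t ht0 ht using hroot
  choose! g hg hgfix using hfix
  refine Set.infinite_of_injOn_mapsTo (s := {u : k | u ≠ 0}) (f := fun u => g (t u)) (fun u hu u' hu' huu => ?_)
    (fun u hu => hgfix _ (ht0 u hu)) (Set.finite_singleton (0 : k)).infinite_compl hfinb
  have := congrArg (fun q : Pts k (SLn N k) => q.ofConv (SLn.X i₀ i₀)) huu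
  simpa [hg _ (ht0 u hu), hg _ (ht0 u' hu'), ht u hu, ht u' hu'] using this

theorem isLinear (N d : ℕ) (k : Type u) [Field k] :
    @GLin.IsLinear k _ (SLn N k) _ _ (FormIdx N d) _ (cF N d k) := by
  intro i
  refine ⟨fun l => φM N k (formCoeff k N d l i), ?_⟩
  show TensorProduct.map LinearMap.id (φM N k : Mat N k →ₗ[k] SLn N k) (formsCoactAlg k N d (X i)) = _
  rw [formsCoactAlg_X, map_sum]
  rfl

/-- A form with a positive weight system is a nullform. -/
theorem not_semistable_of_weights [IsAlgClosed k] [CharZero k] {a : FormIdx N d → k}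
    (M : Matrix (Fin N) (Fin N) k) (hM : M.det = 1) (w : Fin N → ℤ) (hw : ∑ i, w i = 0)
    (hsupp : ∀ β, coeff β (subM M (formPoly a)) ≠ 0 → 0 < W w β) :
    ¬ @GLin.IsSemistableVec k _ (SLn N k) _ _ (FormIdx N d) (cF N d k) (hcF N d k) a := by
  classical
  letI := cF N d k
  haveI := hcF N d k
  haveI := finiteType_SL (k := k) (N := N)
  have hd : (d.factorial : k) ≠ 0 := Nat.cast_ne_zero.2 (Nat.factorial_ne_zero d)
  obtain ⟨b, hb, hcl, -⟩ := exists_limit hd a M hM w hw fun β hβ => (hsupp β hβ).le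
  have hb0 : b = fun _ => 0 := funext fun l => by
    by_contra hl
    refine (hsupp l.1 ?_).ne' (hb l hl).2
    rw [show subM M (formPoly a) = formPoly (movedVec (ptM M hM) a) by rw [formPoly_movedVec hd, mat_ptM],
      coeff_formPoly]
    exact mul_ne_zero (multinomial_ne_zero hd l) (hb l hl).1
  rw [hb0] at hcl
  exact fun hss => (semistable_iff_origin k (SLn N k) GLRed28.isLinearlyReductive_SLn (FormIdx N d) (isLinear N d k) a).1 hss hcl

/-- In every system of coordinates, weights of product one leave some monomial at least one. -/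
def CritSS (F : MvPolynomial (Fin N) k) : Prop :=
  ∀ M : Matrix (Fin N) (Fin N) k, M.det = 1 →
    ∀ (Γ : Type u) [LinearOrderedCommGroupWithZero Γ] (e : Fin N → Γ), (∀ i, 0 < e i) → ∏ i, e i = 1 →
      ∃ β, coeff β (subM M F) ≠ 0 ∧ 1 ≤ ∏ i, e i ^ β i

theorem semistable_of_critSS [IsAlgClosed k] [CharZero k] {a : FormIdx N d → k} (hcrit : CritSS (formPoly a)) :
    @GLin.IsSemistableVec k _ (SLn N k) _ _ (FormIdx N d) (cF N d k) (hcF N d k) a := by
  classical
  letI := cF N d k
  haveI := hcF N d k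
  haveI := finiteType_SL (k := k) (N := N)
  have hd : (d.factorial : k) ≠ 0 := Nat.cast_ne_zero.2 (Nat.factorial_ne_zero d)
  refine (semistable_iff_origin k (SLn N k) GLRed28.isLinearlyReductive_SLn (FormIdx N d) (isLinear N d k) a).2 fun hcl => ?_
  obtain ⟨K, _, _, V, res, ω, halg, hker, hext⟩ := PlaceRat28.exists_place (orb a) _ hcl
  choose hmem hres using hext
  choose halgV halgres using halg
  let ι : k →+* V := (algebraMap k K).codRestrict V.toSubring halgV
  have hιK : (algebraMap V K).comp ι = algebraMap k K := RingHom.ext fun _ => rfl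
  let Ξ : Matrix (Fin N) (Fin N) K := Matrix.of fun i j => ω (SLn.X i j)
  have hdet : Ξ.det = 1 := det_mat ω
  let P₀ : MvPolynomial (Fin N) V :=
    ∑ l : FormIdx N d, monomial l.1 ((l.1.multinomial : V) * ⟨_, hmem (X l)⟩)
  have hP₀res : MvPolynomial.map res P₀ = 0 := by
    rw [map_sum]
    exact Finset.sum_eq_zero fun l _ => by rw [map_monomial, map_mul, hres]; simp [GLin.vecPt]
  have hP₀K : MvPolynomial.map (algebraMap V K) P₀ = subM Ξ (MvPolynomial.map (algebraMap k K) (formPoly a)) := by
    rw [← formPoly_orb hd a ω, map_sum, formPoly]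
    exact Finset.sum_congr rfl fun l _ => by rw [map_monomial, map_mul, map_natCast]; rfl
  obtain ⟨A, B, δ, hA, hB, hΞ⟩ := S11796.result V K N Ξ
  have hδdet : ∏ j, δ j = 1 := by
    have := congrArg Matrix.det hΞ
    rwa [hdet, Matrix.det_mul, Matrix.det_mul, Matrix.det_diagonal, ← RingHom.mapMatrix_apply,
      ← RingHom.mapMatrix_apply, ← RingHom.map_det, ← RingHom.map_det, hA, hB, map_one, one_mul, mul_one,
      eq_comm] at this
  have hδ0 : ∀ j, δ j ≠ 0 := fun j h => by
    rw [Finset.prod_eq_zero (Finset.mem_univ j) h] at hδdet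
    exact zero_ne_one hδdet
  have hBadj : B.map (algebraMap V K) * B.adjugate.map (algebraMap V K) = 1 := by
    rw [← Matrix.map_mul, Matrix.mul_adjugate, hB, one_smul, Matrix.map_one _ (map_zero _) (map_one _)]
  let F₀ : MvPolynomial (Fin N) V := aeval (fun i => lin (A i)) (MvPolynomial.map ι (formPoly a))
  have hred : MvPolynomial.map res F₀ = subM (res.mapMatrix A) (formPoly a) := by
    rw [map_aeval_lin, MvPolynomial.map_map, show res.comp ι = RingHom.id k from RingHom.ext halgres,
      MvPolynomial.map_id]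
    simp [subM, GLRed28.sub, lin]
  have hgen : MvPolynomial.map (algebraMap V K) F₀ =
      subM (A.map (algebraMap V K)) (MvPolynomial.map (algebraMap k K) (formPoly a)) := by
    rw [map_aeval_lin, MvPolynomial.map_map, hιK]
    simp [subM, GLRed28.sub, lin]
  let P₁ : MvPolynomial (Fin N) V := aeval (fun i => lin (B.adjugate i)) P₀
  have hP₁res : MvPolynomial.map res P₁ = 0 := by rw [map_aeval_lin, hP₀res, map_zero]
  have hP₁K : MvPolynomial.map (algebraMap V K) P₁ =
      subM (Matrix.diagonal δ) (MvPolynomial.map (algebraMap V K) F₀) := by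
    have h : ∀ (M : Matrix (Fin N) (Fin N) K) (p : MvPolynomial (Fin N) K),
        aeval (fun i => lin (M i)) p = subM M p := fun M p => by simp [subM, GLRed28.sub, lin]
    rw [map_aeval_lin, hP₀K, hgen, h, subM_subM, subM_subM, hΞ, Matrix.mul_assoc, hBadj, Matrix.mul_one]
  obtain ⟨β, hβ, hone⟩ := hcrit (res.mapMatrix A) (by rw [← RingHom.map_det, hA, map_one]) V.ValueGroup
    (fun i => V.valuation (δ i)) (fun i => zero_lt_iff.2 ((map_ne_zero _).2 (hδ0 i)))
    (by rw [← map_prod, hδdet, map_one])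
  rw [← hred, coeff_map] at hβ
  have hu : IsUnit (coeff β F₀) := by
    by_contra h
    exact hβ (RingHom.mem_ker.1 (hker ▸ (IsLocalRing.mem_maximalIdeal _).2 h))
  have hnu : coeff β P₁ ∈ IsLocalRing.maximalIdeal V := by
    rw [← hker, RingHom.mem_ker, ← coeff_map, hP₁res, coeff_zero]
  have hlt := (V.valuation_lt_one_iff _).1 hnu
  have he : ((coeff β P₁ : V) : K) = (∏ i, δ i ^ β i) * algebraMap V K (coeff β F₀) := by
    rw [← coeff_map (algebraMap V K) F₀ β, ← coeff_subM_diagonal, ← hP₁K, coeff_map]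
    rfl
  rw [he, map_mul, show V.valuation (algebraMap V K (coeff β F₀)) = 1 from (V.valuation_eq_one_iff _).1 hu,
    mul_one, map_prod] at hlt
  simp only [map_pow] at hlt
  exact absurd hone (not_le.2 hlt)

end Groth.Agent.FormHM13
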