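import Groth.Agent.Lib.FormHM13.Basic
import Mathlib.Data.Fin.VecNotation

/-! # Stability of binary forms and root multiplicities -/

set_option autoImplicit false
universe u

open MvPolynomial CoordGrp Groth.Agent.FormSub28 Groth.Agent.GLCrit15

noncomputable section

namespace Groth.Agent.FormHM13

variable {k : Type u} [Field k] {N d : ℕ}

theorem coeff_eq_zero_of_X_pow_dvd {p : MvPolynomial (Fin N) k} {i : Fin N} {m : ℕ} (h : X i ^ m ∣ p)
    {β : Fin N →₀ ℕ} (hβ : β i < m) : coeff β p = 0 := by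
  obtain ⟨q, rfl⟩ := h
  classical
  rw [X_pow_eq_monomial, coeff_monomial_mul', if_neg]
  exact fun hle => absurd (Finsupp.single_le_iff.1 hle) (not_le.2 hβ)

theorem X_pow_dvd_of_forall {p : MvPolynomial (Fin N) k} {i : Fin N} {m : ℕ}
    (h : ∀ β, coeff β p ≠ 0 → m ≤ β i) : X i ^ m ∣ p := by
  rw [p.as_sum]
  refine Finset.dvd_sum fun β hβ => ?_
  rw [X_pow_eq_monomial, monomial_dvd_monomial]
  exact ⟨Or.inr (Finsupp.single_le_iff.2 (h β (mem_support_iff.1 hβ))), one_dvd _⟩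

/-- A coordinate power in some system of coordinates gives a power of a linear form. -/
theorem exists_linear_of_forall {F : MvPolynomial (Fin N) k} {M : Matrix (Fin N) (Fin N) k} (hM : M.det = 1)
    {i : Fin N} {r : ℕ} (h : ∀ β, coeff β (subM M F) ≠ 0 → r ≤ β i) :
    ∃ ℓ : MvPolynomial (Fin N) k, ℓ.IsHomogeneous 1 ∧ ℓ ≠ 0 ∧ ℓ ^ r ∣ F := by
  classical
  refine ⟨subM M.adjugate (X i), GLRed28.isHomogeneous_sub _ (isHomogeneous_X k i), ?_, ?_⟩
  · intro h0
    have := congrArg (subM M) h0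
    rw [subM_subM, Matrix.adjugate_mul, hM, one_smul, map_zero, subM_X] at this
    exact lin_ne_zero (j := i) (by rw [Matrix.one_apply_eq]; exact one_ne_zero) this
  · have := map_dvd (subM M.adjugate) (X_pow_dvd_of_forall h)
    rwa [map_pow, subM_subM, Matrix.mul_adjugate, hM, one_smul,
      show subM (1 : Matrix (Fin N) (Fin N) k) F = F from ?_] at this
    refine AlgHom.congr_fun (φ₂ := AlgHom.id k (MvPolynomial (Fin N) k)) (MvPolynomial.algHom_ext fun j => ?_) F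
    rw [subM_X, AlgHom.id_apply, lin, Finset.sum_eq_single j
      (fun q _ hq => by rw [Matrix.one_apply_ne' hq, map_zero, zero_mul]) (by simp), Matrix.one_apply_eq,
      map_one, one_mul]

/-- A linear form becomes a multiple of the first coordinate. -/
theorem exists_coord_of_linear {ℓ : MvPolynomial (Fin 2) k} (hℓ : ℓ.IsHomogeneous 1) (hℓ0 : ℓ ≠ 0) :
    ∃ M : Matrix (Fin 2) (Fin 2) k, M.det = 1 ∧ ∃ c : k, subM M ℓ = C c * X 0 := by
  classical
  let q : Fin 2 → k := fun j => coeff (Finsupp.single j 1) ℓ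
  have hlin : ℓ = lin q := by
    refine MvPolynomial.ext _ _ fun β => ?_
    rw [lin, coeff_sum]
    simp only [coeff_C_mul, coeff_X', mul_ite, mul_one, mul_zero]
    by_cases hβ : β.degree = 1
    · obtain ⟨j, rfl⟩ : ∃ j, Finsupp.single j 1 = β :=
        ((Finsupp.range_single_one (σ := Fin 2)).symm ▸ hβ : β ∈ Set.range fun a : Fin 2 => Finsupp.single a 1)
      rw [Finset.sum_eq_single j (fun p _ hp => if_neg fun e => hp (Finsupp.single_left_injective one_ne_zero e))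
        (by simp), if_pos rfl]
    · rw [hℓ.coeff_eq_zero hβ, Finset.sum_eq_zero fun p _ => if_neg fun e => hβ (by rw [← e, Finsupp.degree_single])]
  have hq : q ≠ 0 := fun h => hℓ0 (by rw [hlin, h]; simp [lin])
  obtain ⟨G, hG, hGW⟩ := exists_adapted (k ∙ q) (show 0 < 2 by norm_num)
  refine ⟨G, hG, Matrix.vecMul q G 0, ?_⟩
  rw [hlin, subM_lin, lin, Fin.sum_univ_two,
    hGW q (Submodule.mem_span_singleton_self q) 1 (by rw [finrank_span_singleton hq]; simp), map_zero, zero_mul,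
    add_zero]

theorem support_of_pow_dvd {ℓ F : MvPolynomial (Fin 2) k} (hℓ : ℓ.IsHomogeneous 1) (hℓ0 : ℓ ≠ 0) {m : ℕ}
    (hdvd : ℓ ^ m ∣ F) :
    ∃ M : Matrix (Fin 2) (Fin 2) k, M.det = 1 ∧ ∀ β, coeff β (subM M F) ≠ 0 → m ≤ β 0 := by
  obtain ⟨M, hM, c, hc⟩ := exists_coord_of_linear hℓ hℓ0
  refine ⟨M, hM, fun β hβ => ?_⟩
  by_contra hlt
  refine hβ (coeff_eq_zero_of_X_pow_dvd ?_ (not_le.1 hlt))
  have := map_dvd (subM M) hdvd
  rw [map_pow, hc, mul_pow] at this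
  exact dvd_trans (Dvd.intro_left _ rfl) this

section Weights

variable {Γ : Type u} [LinearOrderedCommGroupWithZero Γ] {e : Fin 2 → Γ}

lemma prod_two (hprod : e 0 * e 1 = 1) {β : Fin 2 →₀ ℕ} (h : β 1 ≤ β 0) :
    ∏ i, e i ^ β i = e 0 ^ (β 0 - β 1) := by
  rw [Fin.prod_univ_two]
  conv_lhs => rw [show β 0 = (β 0 - β 1) + β 1 by omega]
  rw [pow_add, mul_assoc, ← mul_pow, hprod, one_pow, mul_one]

lemma prod_two' (hprod : e 0 * e 1 = 1) {β : Fin 2 →₀ ℕ} (h : β 0 ≤ β 1) :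
    ∏ i, e i ^ β i = e 1 ^ (β 1 - β 0) := by
  rw [Fin.prod_univ_two]
  conv_lhs => rw [show β 1 = (β 1 - β 0) + β 0 by omega]
  rw [pow_add, mul_left_comm, ← mul_pow, hprod, one_pow, mul_one]

lemma one_lt_other (hprod : e 0 * e 1 = 1) (h0 : e 0 ≠ 1) : 1 < e 0 ∨ 1 < e 1 := by
  by_contra! h
  refine h0 (le_antisymm h.1 ?_)
  calc (1 : Γ) = e 0 * e 1 := hprod.symm
    _ ≤ e 0 := mul_le_of_le_one_right zero_le h.2

end Weights

lemma degree_two (β : Fin 2 →₀ ℕ) : β.degree = β 0 + β 1 := by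
  rw [Finsupp.degree_eq_sum, Fin.sum_univ_two]

theorem crit_of_mult {F : MvPolynomial (Fin 2) k} (hF : F.IsHomogeneous d)
    (H : ∀ ℓ : MvPolynomial (Fin 2) k, ℓ.IsHomogeneous 1 → ℓ ≠ 0 → ∀ m : ℕ, ℓ ^ m ∣ F → 2 * m < d) :
    Crit F := by
  classical
  intro M hM Γ _ e he hprod hle
  have hp : e 0 * e 1 = 1 := by rw [← hprod, Fin.prod_univ_two]
  have hdeg : ∀ β, coeff β (subM M F) ≠ 0 → β 0 + β 1 = d := fun β hβ => by
    rw [← degree_two]; exact degree_of_coeff_ne (GLRed28.isHomogeneous_sub _ hF) hβ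
  have h0 : e 0 = 1 := by
    by_contra h0
    rcases one_lt_other hp h0 with h | h
    · have hb : ∀ β, coeff β (subM M F) ≠ 0 → (d + 1) / 2 ≤ β 1 := fun β hβ => by
        by_contra hlt
        have := hdeg β hβ
        have h1 := hle β hβ
        rw [prod_two hp (by omega)] at h1
        exact absurd (one_lt_pow₀ h (by omega)) (not_lt.2 h1)
      obtain ⟨ℓ, h1, h2, h3⟩ := exists_linear_of_forall hM hb
      have := H ℓ h1 h2 _ h3
      omega
    · have hb : ∀ β, coeff β (subM M F) ≠ 0 → (d + 1) / 2 ≤ β 0 := fun β hβ => by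
        by_contra hlt
        have := hdeg β hβ
        have h1 := hle β hβ
        rw [prod_two' hp (by omega)] at h1
        exact absurd (one_lt_pow₀ h (by omega)) (not_lt.2 h1)
      obtain ⟨ℓ, h1, h2, h3⟩ := exists_linear_of_forall hM hb
      have := H ℓ h1 h2 _ h3
      omega
  intro i
  rw [h0, one_mul] at hp
  fin_cases i
  · exact h0
  · exact hp

theorem critSS_of_mult {F : MvPolynomial (Fin 2) k} (hF : F.IsHomogeneous d)
    (H : ∀ ℓ : MvPolynomial (Fin 2) k, ℓ.IsHomogeneous 1 → ℓ ≠ 0 → ∀ m : ℕ, ℓ ^ m ∣ F → 2 * m ≤ d) :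
    CritSS F := by
  classical
  intro M hM Γ _ e he hprod
  have hp : e 0 * e 1 = 1 := by rw [← hprod, Fin.prod_univ_two]
  have hdeg : ∀ β, coeff β (subM M F) ≠ 0 → β 0 + β 1 = d := fun β hβ => by
    rw [← degree_two]; exact degree_of_coeff_ne (GLRed28.isHomogeneous_sub _ hF) hβ
  by_contra! hlt
  by_cases h1 : 1 ≤ e 0
  · have hb : ∀ β, coeff β (subM M F) ≠ 0 → d / 2 + 1 ≤ β 1 := fun β hβ => by
      by_contra hb
      have := hdeg β hβ
      have h2 := hlt β hβ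
      rw [prod_two hp (by omega)] at h2
      exact absurd (one_le_pow₀ h1) (not_le.2 h2)
    obtain ⟨ℓ, h1, h2, h3⟩ := exists_linear_of_forall hM hb
    have := H ℓ h1 h2 _ h3
    omega
  · have h1' : 1 ≤ e 1 := by
      rcases one_lt_other hp (fun h => h1 h.ge) with h | h
      · exact absurd h.le h1
      · exact h.le
    have hb : ∀ β, coeff β (subM M F) ≠ 0 → d / 2 + 1 ≤ β 0 := fun β hβ => by
      by_contra hb
      have := hdeg β hβ
      have h2 := hlt β hβ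
      rw [prod_two' hp (by omega)] at h2
      exact absurd (one_le_pow₀ h1') (not_le.2 h2)
    obtain ⟨ℓ, h1, h2, h3⟩ := exists_linear_of_forall hM hb
    have := H ℓ h1 h2 _ h3
    omega

lemma W_two (β : Fin 2 →₀ ℕ) : W ![1, -1] β = (β 0 : ℤ) - β 1 := by
  rw [W, Fin.sum_univ_two]
  simp [sub_eq_add_neg]

variable [IsAlgClosed k] [CharZero k]

theorem stable_binary_iff (a : FormIdx 2 d → k) :
    @GLin.IsStableVec k _ (SLn 2 k) _ _ (FormIdx 2 d) (cF 2 d k) (hcF 2 d k) a ↔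
      ∀ ℓ : MvPolynomial (Fin 2) k, ℓ.IsHomogeneous 1 → ℓ ≠ 0 → ∀ m : ℕ, ℓ ^ m ∣ formPoly a → 2 * m < d := by
  have hd : (d.factorial : k) ≠ 0 := Nat.cast_ne_zero.2 (Nat.factorial_ne_zero d)
  refine ⟨fun hst ℓ hℓ hℓ0 m hdvd => ?_, fun H => isStableVec_of_crit hd (crit_of_mult (isHomogeneous_formPoly a) H)⟩
  by_contra hm
  obtain ⟨M, hM, hsupp⟩ := support_of_pow_dvd hℓ hℓ0 hdvd
  refine not_stable_of_weights hd hst M hM ![1, -1] (by simp [Fin.sum_univ_two]) (i₀ := 0) (by simp) fun β hβ => ?_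
  have h1 := degree_of_coeff_ne (GLRed28.isHomogeneous_sub M (isHomogeneous_formPoly a)) hβ
  have h2 := hsupp β hβ
  rw [degree_two] at h1
  rw [W_two]
  omega

theorem semistable_binary_iff (a : FormIdx 2 d → k) :
    @GLin.IsSemistableVec k _ (SLn 2 k) _ _ (FormIdx 2 d) (cF 2 d k) (hcF 2 d k) a ↔
      ∀ ℓ : MvPolynomial (Fin 2) k, ℓ.IsHomogeneous 1 → ℓ ≠ 0 → ∀ m : ℕ, ℓ ^ m ∣ formPoly a → 2 * m ≤ d := by
  refine ⟨fun hss ℓ hℓ hℓ0 m hdvd => ?_, fun H => semistable_of_critSS (critSS_of_mult (isHomogeneous_formPoly a) H)⟩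
  by_contra hm
  obtain ⟨M, hM, hsupp⟩ := support_of_pow_dvd hℓ hℓ0 hdvd
  refine not_semistable_of_weights M hM ![1, -1] (by simp [Fin.sum_univ_two]) (fun β hβ => ?_) hss
  have h1 := degree_of_coeff_ne (GLRed28.isHomogeneous_sub M (isHomogeneous_formPoly a)) hβ
  have h2 := hsupp β hβ
  rw [degree_two] at h1
  rw [W_two]
  omega

end Groth.Agent.FormHM13
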