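import Groth.Agent.Lib.FormHM13.Basic
import Groth.Agent.Lib.GLCrit15.Smooth
import Mathlib.Data.Fin.VecNotation

/-! # Singular plane cubics are not stable -/

set_option autoImplicit false
universe u

open MvPolynomial CoordGrp Groth.Agent.FormSub28 Groth.Agent.GLCrit15

noncomputable section

namespace Groth.Agent.FormHM13

variable {k : Type u} [Field k] {N : ℕ}

/-- Evaluation of a form at a coordinate point reads off one coefficient. -/
theorem eval_single {p : MvPolynomial (Fin N) k} {d : ℕ} (hp : p.IsHomogeneous d) (i : Fin N) :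
    eval (Pi.single i 1) p = coeff (Finsupp.single i d) p := by
  classical
  rw [MvPolynomial.eval_eq', Finset.sum_eq_single (Finsupp.single i d)]
  · rw [Finset.prod_eq_one fun j _ => ?_, mul_one]
    rcases eq_or_ne j i with rfl | h <;> simp [*]
  · intro γ hγ hne
    obtain ⟨j, hj, hjγ⟩ : ∃ j, j ≠ i ∧ γ j ≠ 0 := by
      by_contra! h
      refine hne (Finsupp.ext fun j => ?_)
      rcases eq_or_ne j i with rfl | hji
      · have h2 := degree_of_coeff_ne hp (mem_support_iff.1 hγ)
        rw [Finsupp.degree_eq_sum, Finset.sum_eq_single j (fun q _ hq => h q hq) (by simp)] at h2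
        rw [h2, Finsupp.single_eq_same]
      · rw [h j hji, Finsupp.single_eq_of_ne hji]
    rw [Finset.prod_eq_zero (Finset.mem_univ j) (by rw [Pi.single_eq_of_ne hj, zero_pow hjγ]), mul_zero]
  · intro h
    rw [notMem_support_iff.1 h, zero_mul]

/-- A singular point can be moved to the first coordinate point. -/
theorem exists_singular_at_zero {F : MvPolynomial (Fin (N + 1)) k} {m : ℕ} (hF : F.IsHomogeneous m)
    {w : Fin (N + 1) → k} (hw : w ≠ 0) (hsing : ∀ i, eval w (pderiv i F) = 0) :
    ∃ M : Matrix (Fin (N + 1)) (Fin (N + 1)) k, M.det = 1 ∧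
      ∀ i, eval (Pi.single 0 1) (pderiv i (subM M F)) = 0 := by
  classical
  obtain ⟨G, hG, hGW⟩ := exists_adapted (k ∙ w) (Nat.succ_pos N)
  let c := Matrix.vecMul w G 0
  have hvw : Matrix.vecMul w G = c • Pi.single 0 1 := funext fun j => by
    rcases eq_or_ne j 0 with rfl | hj
    · simp [c]
    · rw [hGW w (Submodule.mem_span_singleton_self w) j
        (by rw [finrank_span_singleton hw]; exact Fin.pos_iff_ne_zero.2 hj)]
      simp [Pi.single_eq_of_ne hj]
  let M := G.adjugate.transpose
  have hM : M.det = 1 := by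
    rw [Matrix.det_transpose, Matrix.det_adjugate, hG, one_pow]
  have hcw : c • M.mulVec (Pi.single 0 1) = w := by
    rw [← Matrix.mulVec_smul, ← hvw, Matrix.mulVec_transpose, Matrix.vecMul_vecMul, Matrix.mul_adjugate, hG, one_smul,
      Matrix.vecMul_one]
  have hc : c ≠ 0 := fun h => hw (by rw [← hcw, h, zero_smul])
  refine ⟨M, hM, fun i => ?_⟩
  rw [subM, GLRed28.pderiv_sub, map_sum]
  refine Finset.sum_eq_zero fun l _ => ?_
  rw [map_mul, eval_C]
  refine mul_eq_zero_of_right _ ((eval_subM M _ _).trans ?_)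
  have h1 := hsing l
  rw [← hcw, eval_smul_of_isHomogeneous hF.pderiv] at h1
  exact (mul_eq_zero.1 h1).resolve_left (pow_ne_zero _ hc)

/-- A singular plane cubic is not stable. -/
theorem not_stable_of_singular [IsAlgClosed k] [CharZero k] {a : FormIdx 3 3 → k}
    (hst : @GLin.IsStableVec k _ (SLn 3 k) _ _ (FormIdx 3 3) (cF 3 3 k) (hcF 3 3 k) a)
    {w : Fin 3 → k} (hw : w ≠ 0) (hsing : ∀ i, eval w (pderiv i (formPoly a)) = 0) : False := by
  classical
  obtain ⟨M, hM, hs⟩ := exists_singular_at_zero (isHomogeneous_formPoly a) hw hsing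
  refine not_stable_of_weights (Nat.cast_ne_zero.2 (Nat.factorial_ne_zero 3)) hst M hM ![-2, 1, 1]
    (by simp [Fin.sum_univ_three]) (i₀ := 0) (by simp) fun β hβ => ?_
  have hG : (subM M (formPoly a)).IsHomogeneous 3 := GLRed28.isHomogeneous_sub M (isHomogeneous_formPoly a)
  have hdeg := degree_of_coeff_ne hG hβ
  rw [Finsupp.degree_eq_sum, Fin.sum_univ_three] at hdeg
  have hW : W ![-2, 1, 1] β = -2 * (β 0 : ℤ) + β 1 + β 2 := by
    rw [W, Fin.sum_univ_three]
    simp
  rw [hW]
  by_contra hneg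
  -- the monomial has the form x₀² xᵢ
  obtain ⟨i, hi⟩ : ∃ i, β = Finsupp.single 0 2 + Finsupp.single i 1 := by
    by_cases h0 : β 0 = 3
    · exact ⟨0, Finsupp.ext fun j => by fin_cases j <;> simp <;> omega⟩
    · by_cases h1 : β 1 = 1
      · exact ⟨1, Finsupp.ext fun j => by fin_cases j <;> simp <;> omega⟩
      · exact ⟨2, Finsupp.ext fun j => by fin_cases j <;> simp <;> omega⟩
  have h2 := hs i
  rw [eval_single (d := 2) hG.pderiv, coeff_pderiv, ← hi] at h2
  refine hβ ((mul_eq_zero.1 h2).resolve_right ?_)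
  have h3 : ((Finsupp.single (0 : Fin 3) 2) i : ℕ) + 1 ≠ 0 := Nat.succ_ne_zero _
  exact_mod_cast h3

end Groth.Agent.FormHM13
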